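import Cfsg.Agent.GroupStructure3.G2Inv.Setup

/-!
The centralizer of the basic involution of `G₂(q)`, `q` odd.
-/

set_option autoImplicit false

open scoped MatrixGroups Matrix

namespace Cfsg.Agent.GroupStructure3.G2Inv

open Cfsg.Lie Cfsg.Agent.Chevalley.Table Cfsg.Agent.Chevalley.Cert Cfsg.Agent.Chevalley.Relations
  Cfsg.Agent.Chevalley.Group Cfsg.Agent.Chevalley.Borel Cfsg.Agent.Chevalley.Unip
  Cfsg.Agent.Chevalley.Weyl Cfsg.Agent.Chevalley.SL2 Cfsg.Agent.Chevalley.NormalForm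

variable {F : Type*} [Field F]

/-- The candidate for the centralizer of `t₀`. -/
noncomputable def MM (F : Type*) [Field F] : Subgroup (A F) :=
  (φ (F := F)).range ⊔ chevG2.diagonalSubgroup F

theorem φ_mem_group (p : SL(2, F) × SL(2, F)) : φ p ∈ chevG2.group F := by
  obtain ⟨g, g'⟩ := p
  rw [φ_apply]
  refine mul_mem ?_ ?_
  · exact mem_of_generators (K := (chevG2.group F).comap φ₁)
      (fun t => Subgroup.mem_comap.2 (by rw [φ₁_spec.1]; exact xg_mem_group hC (lt12 (by omega)) t))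
      (fun t => Subgroup.mem_comap.2
        (by rw [φ₁_spec.2]; exact xg_mem_group hC (hC.neg_lt (lt12 (by omega))) t)) g
  · exact mem_of_generators (K := (chevG2.group F).comap φ₂)
      (fun t => Subgroup.mem_comap.2 (by rw [φ₂_spec.1]; exact xg_mem_group hC (lt12 (by omega)) t))
      (fun t => Subgroup.mem_comap.2
        (by rw [φ₂_spec.2]; exact xg_mem_group hC (hC.neg_lt (lt12 (by omega))) t)) g'

theorem MM_le_group : MM F ≤ chevG2.group F :=
  sup_le (by rintro _ ⟨p, rfl⟩; exact φ_mem_group p) (H_le_group hC)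

theorem H_normalizes_range :
    chevG2.diagonalSubgroup F ≤ Subgroup.normalizer ((φ (F := F)).range : Set (A F)) := by
  have key : ∀ x y : Fˣ, ∀ g ∈ (φ (F := F)).range, tt x y * g * (tt x y)⁻¹ ∈ (φ (F := F)).range := by
    rintro x y _ ⟨⟨g, g'⟩, rfl⟩
    exact ⟨_, (tt_conj_φ x y g g').symm⟩
  intro h hh
  obtain ⟨x, y, rfl⟩ := exists_tt hh
  refine Subgroup.mem_normalizer_iff.2 fun g => ⟨key x y g, fun hg => ?_⟩
  have := key x⁻¹ y⁻¹ _ hg
  rw [← tt_inv] at this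
  rwa [show (tt x y)⁻¹ * (tt x y * g * (tt x y)⁻¹) * ((tt x y)⁻¹)⁻¹ = g by group] at this

theorem mem_MM_iff {g : A F} : g ∈ MM F ↔ ∃ p x y, g = φ p * tt x y := by
  rw [MM, ← SetLike.mem_coe,
    Subgroup.coe_mul_of_right_le_normalizer_left _ _ H_normalizes_range, Set.mem_mul]
  constructor
  · rintro ⟨_, ⟨p, rfl⟩, h, hh, rfl⟩
    obtain ⟨x, y, rfl⟩ := exists_tt hh
    exact ⟨p, x, y, rfl⟩
  · rintro ⟨p, x, y, rfl⟩
    exact ⟨_, ⟨p, rfl⟩, _, tt_mem_H x y, rfl⟩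

theorem φ_mem_MM (p : SL(2, F) × SL(2, F)) : φ p ∈ MM F :=
  Subgroup.mem_sup_left ⟨p, rfl⟩

theorem φ₁_mem_MM (g : SL(2, F)) : φ₁ g ∈ MM F := by
  simpa [φ_apply] using φ_mem_MM (g, 1)

theorem φ₂_mem_MM (g : SL(2, F)) : φ₂ g ∈ MM F := by
  simpa [φ_apply] using φ_mem_MM (1, g)

theorem tt_mem_MM (x y : Fˣ) : tt x y ∈ MM F := Subgroup.mem_sup_right (tt_mem_H x y)

theorem t₀_mem_H : (t₀ : A F) ∈ chevG2.diagonalSubgroup F := by
  rw [t₀_eq_tt]; exact tt_mem_H _ _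

theorem MM_commute_t₀ {g : A F} (hg : g ∈ MM F) : Commute g t₀ := by
  obtain ⟨⟨a, b⟩, x, y, rfl⟩ := mem_MM_iff.1 hg
  refine Commute.mul_left ?_ (H_comm hC (tt_mem_H x y) t₀_mem_H)
  rw [φ_apply]
  refine Commute.mul_left ?_ (φ_commute (-1) b).symm
  exact Commute.map (by rw [Commute, SemiconjBy]; simp) φ₁

theorem eq_one_or_of_center {g : SL(2, F)} (h1 : g * sx 1 = sx 1 * g) (h2 : g * sy 1 = sy 1 * g) :
    g = 1 ∨ g = -1 := by
  have hx := congrArg (fun k : SL(2, F) => el k 0 0) h1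
  have hx' := congrArg (fun k : SL(2, F) => el k 0 1) h1
  have hy := congrArg (fun k : SL(2, F) => el k 0 0) h2
  simp only [el_mul] at hx hx' hy
  simp [el] at hx hx' hy
  have hdet := el_det g
  rw [show el g 1 0 = 0 from hx, mul_zero, sub_zero] at hdet
  have hd : el g 0 0 = el g 1 1 := by
    simp only [el]; linear_combination hx'
  rw [← hd] at hdet
  rcases mul_self_eq_one_iff.1 hdet with h | h
  · left
    apply Subtype.ext
    ext i j
    fin_cases i <;> fin_cases j <;> simp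
    · exact h
    · exact hy
    · exact hx
    · exact hd.symm.trans h
  · right
    apply Subtype.ext
    ext i j
    fin_cases i <;> fin_cases j <;> simp
    · exact h
    · exact hy
    · exact hx
    · exact hd.symm.trans h

theorem φ_eq_one {g g' : SL(2, F)} (h : φ (g, g') = 1) :
    (g = 1 ∧ g' = 1) ∨ (g = -1 ∧ g' = -1) := by
  rw [φ_apply] at h
  have hcen : ∀ k, g * k = k * g := fun k => by
    refine φ₁_injective ?_
    rw [map_mul, map_mul, show φ₁ g = (φ₂ g')⁻¹ from eq_inv_of_mul_eq_one_left h]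
    exact ((φ_commute k g').symm.inv_left).eq
  rcases eq_one_or_of_center (hcen _) (hcen _) with rfl | rfl
  · refine Or.inl ⟨rfl, φ₂_injective ?_⟩
    rw [map_one, one_mul] at h
    rw [h, map_one]
  · refine Or.inr ⟨rfl, φ₂_injective ?_⟩
    rw [φ₂_neg_one, eq_inv_of_mul_eq_one_right h, ← map_inv]
    exact congrArg φ₁ (by simp)

theorem tt_mem_range_iff (x y : Fˣ) : tt x y ∈ (φ (F := F)).range ↔ IsSquare y := by
  constructor
  · rintro ⟨⟨g, g'⟩, hp⟩
    have e := tt_conj_φ x y (sx 1) 1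
    rw [← hp, map_one] at e
    have e' : φ ((g, g') * (sx 1, 1) * (g, g')⁻¹) = φ (cj y (sx 1), 1) := by
      rw [map_mul, map_mul, map_inv]; exact e
    have e'' : φ₁ (g * sx 1 * g⁻¹) = φ₁ (cj y (sx 1)) := by
      simpa [φ_apply] using e'
    have h := φ₁_injective e''
    rw [mul_inv_eq_iff_eq_mul] at h
    have h00 := congrArg (fun k : SL(2, F) => el k 0 0) h
    have h01 := congrArg (fun k : SL(2, F) => el k 0 1) h
    simp only [el_mul] at h00 h01
    simp [el, Units.ne_zero] at h00 h01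
    have hdet := el_det g
    simp only [el] at hdet
    rw [h00] at hdet
    have ha : (g : Matrix (Fin 2) (Fin 2) F) 0 0 ≠ 0 := by
      intro h0
      rw [h0] at hdet
      simp at hdet
    refine ⟨Units.mk0 _ ha, Units.ext ?_⟩
    simp only [Units.val_mul, Units.val_mk0]
    linear_combination (-(y : F)) * hdet - ((g : Matrix (Fin 2) (Fin 2) F) 0 0) * h01
  · rintro ⟨a, rfl⟩
    refine ⟨(sd (a : F), sd ((a * x : Fˣ) : F)), ?_⟩
    rw [φ_sd]
    congr 1
    · rw [inv_mul_cancel_left]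
    · rw [sq]

/-! ### The Weyl group -/

/-- Representatives of the twelve elements of the Weyl group. -/
def words : List (List ℕ) :=
  [[], [0], [1], [0, 1], [1, 0], [0, 1, 0], [1, 0, 1], [0, 1, 0, 1], [1, 0, 1, 0], [0, 1, 0, 1, 0],
    [1, 0, 1, 0, 1], [1, 0, 1, 0, 1, 0]]

theorem words_closed : ∀ e ∈ words, ∀ i : Fin 2, ∃ e' ∈ words, ∀ r : Fin 12,
    wL chevG2 ((i : ℕ) :: e) r = wL chevG2 e' r := by decide +kernel

theorem words_lt : ∀ e ∈ words, ∀ i ∈ e, i < chevG2.rank := by decide +kernel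

theorem exists_word (L : List ℕ) (hL : ∀ i ∈ L, i < chevG2.rank) :
    ∃ e ∈ words, Cfsg.Agent.Chevalley.WeylEnum.Eqv chevG2 L e := by
  induction L with
  | nil => exact ⟨[], by simp [words], fun r _ => rfl⟩
  | cons i L ih =>
    obtain ⟨e, he, hee⟩ := ih fun j hj => hL j (List.mem_cons_of_mem i hj)
    obtain ⟨e', he', hee'⟩ := words_closed e he ⟨i, hL i List.mem_cons_self⟩
    refine ⟨e', he', fun r hr => ?_⟩
    rw [← hee' ⟨r, hr⟩]
    show chevG2.reflectRoot i (wL chevG2 L r) = chevG2.reflectRoot i (wL chevG2 e r)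
    rw [hee r hr]

theorem words_stab : ∀ e ∈ words, Even (cA (wL chevG2 e 6)) →
    e ∈ ([[], [1], [0, 1, 0, 1, 0], [1, 0, 1, 0, 1, 0]] : List (List ℕ)) := by decide +kernel

theorem nL_stab_mem {e : List ℕ}
    (he : e ∈ ([[], [1], [0, 1, 0, 1, 0], [1, 0, 1, 0, 1, 0]] : List (List ℕ))) :
    nL hC F e ∈ MM F := by
  have h1 : nL hC F [1] ∈ MM F := by
    rw [nL_singleton, show chevG2.simple 1 = 6 from rfl]
    have : φ₁ (sn (1 : F)) = ng hC 6 (1 : F) := by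
      rw [sn, map_mul, map_mul, φ₁_spec.1, φ₁_spec.2]; rfl
    exact this ▸ φ₁_mem_MM _
  have h5 : nL hC F [0, 1, 0, 1, 0] ∈ MM F := by
    obtain ⟨η, hη, e9⟩ := nL_conj_ng (F := F) hC (L := [0, 1]) (by decide +kernel) (r := 7)
      (lt12 (by omega))
    have hw : wL chevG2 [0, 1] 7 = 9 := by decide +kernel
    obtain ⟨c, hc⟩ := exists_tor_of_pos (F := F) hC (L := [0, 1] ++ [1, 0]) (by decide +kernel)
      (by decide +kernel)
    rw [nL_append] at hc
    have e : nL hC F [0, 1, 0, 1, 0] =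
        ng hC 9 (η * 1) * tor chevG2 c := by
      rw [← hw, ← e9, ← hc, show ([0, 1, 0, 1, 0] : List ℕ) = [0, 1] ++ [0] ++ [1, 0] from rfl,
        nL_append, nL_append, nL_singleton, show chevG2.simple 0 = 7 from rfl]
      group
    rw [e]
    refine mul_mem ?_ (Subgroup.mem_sup_right (tor_mem_H hC c))
    have : φ₂ (sn (η * 1)) = ng hC 9 (η * 1) := by
      rw [sn, map_mul, map_mul, φ₂_spec.1, φ₂_spec.2]; rfl
    exact this ▸ φ₂_mem_MM _
  simp only [List.mem_cons, List.not_mem_nil, or_false] at he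
  rcases he with rfl | rfl | rfl | rfl
  · simp [nL]
  · exact h1
  · exact h5
  · rw [show ([1, 0, 1, 0, 1, 0] : List ℕ) = [1] ++ [0, 1, 0, 1, 0] from rfl, nL_append]
    exact mul_mem h1 h5

/-! ### The centralizer -/

theorem Uminus_conj {L : List ℕ} (hL : ∀ i ∈ L, i < chevG2.rank) (c : ℕ → Fˣ) (x y : Fˣ) {u : A F}
    (hu : u ∈ Uminus chevG2 F (tor chevG2 c * nL hC F L)) :
    tt x y * u * (tt x y)⁻¹ ∈ Uminus chevG2 F (tor chevG2 c * nL hC F L) := by
  rw [Uminus_eq hC hL c] at hu ⊢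
  have : Subgroup.closure {g : A F | ∃ (r : ℕ) (t : F),
      r ∈ invList chevG2 Cfsg.Agent.Chevalley.Data.G2.tab L ∧ g = xg hC r t} ≤
      (Subgroup.closure {g : A F | ∃ (r : ℕ) (t : F),
      r ∈ invList chevG2 Cfsg.Agent.Chevalley.Data.G2.tab L ∧ g = xg hC r t}).comap
        (MulAut.conj (tt x y)).toMonoidHom := by
    refine (Subgroup.closure_le _).2 ?_
    rintro _ ⟨r, t, hr, rfl⟩
    refine Subgroup.mem_comap.2 (Subgroup.subset_closure
      ⟨r, ((x ^ cA r * y ^ cB r : Fˣ) : F) * t, hr, ?_⟩)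
    exact tt_conj_x x y ((mem_invList hC).1 hr).1 t
  exact this hu

theorem neg_one_ne [Fintype F] (h2 : (2 : F) ≠ 0) : ((-1 : Fˣ) : F) ≠ 1 := by
  intro h
  simp at h
  exact h2 (by linear_combination -h)

theorem fixed_U [Fintype F] (h2 : (2 : F) ≠ 0) {u : A F} (hu : u ∈ chevG2.posUnipotent F)
    (hc : t₀ * u * t₀⁻¹ = u) : u ∈ MM F := by
  obtain ⟨t, rfl⟩ := exists_prodX hC hu
  have hp : chevG2.posRoots = [6, 7, 8, 9, 10, 11] := by decide +kernel
  let t' : ℕ → F := fun r => (((-1 : Fˣ) ^ cA r * 1 ^ cB r : Fˣ) : F) * t r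
  have e : t₀ * prodX hC chevG2.posRoots t * t₀⁻¹ = prodX hC chevG2.posRoots t' := by
    rw [hp]
    simp only [prodX, List.map_cons, List.map_nil, List.prod_cons, List.prod_nil, mul_one, t']
    rw [← tt_conj_x (-1) 1 (s := 6) (by omega), ← tt_conj_x (-1) 1 (s := 7) (by omega),
      ← tt_conj_x (-1) 1 (s := 8) (by omega), ← tt_conj_x (-1) 1 (s := 9) (by omega),
      ← tt_conj_x (-1) 1 (s := 10) (by omega), ← tt_conj_x (-1) 1 (s := 11) (by omega), t₀_eq_tt]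
    group
  rw [hc] at e
  have hz : ∀ r ∈ ([7, 8, 10, 11] : List ℕ), t r = 0 := by
    intro r hr
    have hodd : Odd (cA r) := by
      revert r; decide +kernel
    have hrp : r ∈ chevG2.posRoots := by
      rw [hp]; revert r; decide +kernel
    have h1 := prodX_inj hC posRoots_sorted (fun _ h => (mem_posRoots hC).1 h) e r hrp
    simp only [t', one_zpow, mul_one, hodd.neg_one_zpow] at h1
    simp at h1
    have h3 : (2 : F) * t r = 0 := by linear_combination h1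
    exact (mul_eq_zero.1 h3).resolve_left h2
  rw [hp, prodX]
  simp only [List.map_cons, List.map_nil, List.prod_cons, List.prod_nil, mul_one,
    hz 7 (by simp), hz 8 (by simp), hz 10 (by simp), hz 11 (by simp), xg_zero, one_mul]
  refine mul_mem ?_ ?_
  · rw [← φ₁_spec.1]; exact φ₁_mem_MM _
  · rw [← φ₂_spec.1]; exact φ₂_mem_MM _

theorem mem_MM_of_commute [Fintype F] (h2 : (2 : F) ≠ 0) {g : A F} (hg : g ∈ chevG2.group F)
    (hc : Commute g t₀) : g ∈ MM F := by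
  obtain ⟨b, hb, n, hn, u, hu, rfl⟩ := exists_form hC hg
  obtain ⟨v, hv, k, hk, rfl⟩ := (mem_B_iff hC).1 hb
  obtain ⟨c, L, hL, rfl⟩ := (mem_N_iff hC).1 hn
  obtain ⟨n, hnd⟩ : ∃ n, n = tor chevG2 c * nL hC F L := ⟨_, rfl⟩
  rw [← hnd] at hn hu hc ⊢
  obtain ⟨k', hk'd⟩ : ∃ k', k' = t₀ * (n * t₀⁻¹ * n⁻¹) := ⟨_, rfl⟩
  have hk' : k' ∈ chevG2.diagonalSubgroup F :=
    hk'd ▸ mul_mem t₀_mem_H (Cfsg.Agent.Chevalley.Bruhat.H_conj hC hn (inv_mem t₀_mem_H))
  have hv' : t₀ * v * t₀⁻¹ ∈ chevG2.posUnipotent F :=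
    (Subgroup.mem_normalizer_iff.1 (H_normalizes_U hC t₀_mem_H) v).1 hv
  have hu' : t₀ * u * t₀⁻¹ ∈ Uminus chevG2 F n := by
    rw [hnd, t₀_eq_tt]
    exact Uminus_conj hL c _ _ (hnd ▸ hu)
  have hUB : chevG2.posUnipotent F ≤ chevG2.borelSubgroup F := le_sup_left
  have hk0 : t₀ * k = k * t₀ := H_comm hC t₀_mem_H hk
  have e : v * k * n * u = t₀ * v * t₀⁻¹ * k * k' * n * (t₀ * u * t₀⁻¹) :=
    calc v * k * n * u = (v * k * n * u * t₀) * t₀⁻¹ := by group
      _ = (t₀ * (v * k * n * u)) * t₀⁻¹ := by rw [hc.eq]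
      _ = t₀ * v * t₀⁻¹ * (t₀ * k) * n * u * t₀⁻¹ := by group
      _ = t₀ * v * t₀⁻¹ * (k * t₀) * n * u * t₀⁻¹ := by rw [hk0]
      _ = _ := by rw [hk'd]; group
  obtain ⟨hb1, hu1⟩ := (unique_form hC hb
    (mul_mem (mul_mem (hUB hv') (Subgroup.mem_sup_right hk)) (Subgroup.mem_sup_right hk'))
    hn hn hu hu' e).2 rfl
  have hvv : (t₀ * v * t₀⁻¹)⁻¹ * v = k * k' * k⁻¹ := by
    calc (t₀ * v * t₀⁻¹)⁻¹ * v = (t₀ * v * t₀⁻¹)⁻¹ * (v * k) * k⁻¹ := by group
      _ = _ := by rw [hb1]; group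
  have h1 : (t₀ * v * t₀⁻¹)⁻¹ * v ∈ (⊥ : Subgroup (A F)) := by
    rw [← U_inf_H hC, Subgroup.mem_inf]
    exact ⟨mul_mem (inv_mem hv') hv, hvv ▸ mul_mem (mul_mem hk hk') (inv_mem hk)⟩
  rw [Subgroup.mem_bot] at h1
  have hk1 : k' = 1 := by
    rw [h1] at hvv
    calc k' = k⁻¹ * (k * k' * k⁻¹) * k := by group
      _ = 1 := by rw [← hvv]; group
  have hnc : n * t₀ * n⁻¹ = t₀ := by
    calc n * t₀ * n⁻¹ = (t₀ * (n * t₀⁻¹ * n⁻¹))⁻¹ * t₀ := by group
      _ = t₀ := by rw [← hk'd, hk1, inv_one, one_mul]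
  refine mul_mem (mul_mem (mul_mem ?_ (Subgroup.mem_sup_right hk)) ?_) ?_
  · exact fixed_U h2 hv (inv_mul_eq_one.1 h1)
  swap
  · exact fixed_U h2 (Uminus_le_U hC n hu) hu1.symm
  -- the monomial part
  have heven : Even (cA (wL chevG2 L 6)) := by
    obtain ⟨η, hη, he⟩ := conj_xg (F := F) hC hL c (r := 6) (lt12 (by omega))
    have hw := wL_lt hC hL (lt12 (r := 6) (by omega))
    have e1 : t₀ * (n * xg hC 6 (1 : F) * n⁻¹) * t₀⁻¹ = n * xg hC 6 (1 : F) * n⁻¹ := by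
      have e2 : t₀ * xg hC 6 (1 : F) * t₀⁻¹ = xg hC 6 1 := by
        rw [t₀_eq_tt, tt_conj_x _ _ (by omega), show cA 6 = 0 from rfl]
        simp
      calc t₀ * (n * xg hC 6 (1 : F) * n⁻¹) * t₀⁻¹
          = (n * t₀ * n⁻¹) * (n * xg hC 6 (1 : F) * n⁻¹) * (n * t₀ * n⁻¹)⁻¹ := by rw [hnc]
        _ = n * (t₀ * xg hC 6 (1 : F) * t₀⁻¹) * n⁻¹ := by group
        _ = _ := by rw [e2]
    rw [hnd, he, t₀_eq_tt, tt_conj_x _ _ hw] at e1
    have e3 := xg_injective hC hw e1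
    by_contra hodd
    rw [Int.not_even_iff_odd] at hodd
    rw [hodd.neg_one_zpow, one_zpow, mul_one, mul_one] at e3
    simp at e3
    exact hη ((mul_eq_zero.1 (show (2 : F) * η = 0 by linear_combination -e3)).resolve_left h2)
  obtain ⟨e', he', hee⟩ := exists_word L hL
  have hst := words_stab e' he' (by rwa [← hee 6 (lt12 (by omega))])
  obtain ⟨c', hc'⟩ := Cfsg.Agent.Chevalley.Order.nL_eq_tor_mul (F := F) hC hL (words_lt e' he') hee
  rw [hnd, hc', ← mul_assoc, tor_mul]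
  exact mul_mem (Subgroup.mem_sup_right (tor_mem_H hC _)) (nL_stab_mem hst)

theorem mem_MM_iff_commute [Fintype F] (h2 : (2 : F) ≠ 0) {g : A F} :
    g ∈ MM F ↔ g ∈ chevG2.group F ∧ Commute g t₀ :=
  ⟨fun h => ⟨MM_le_group h, MM_commute_t₀ h⟩, fun h => mem_MM_of_commute h2 h.1 h.2⟩

end Cfsg.Agent.GroupStructure3.G2Inv
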