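import Cfsg.Agent.GroupStructure3.G2Inv.Centralizer
import Cfsg.Agent.Lib.Chevalley.Types.SimpleG2
import Cfsg.Agent.Lib.Chevalley.Types.OrderG2
import Cfsg.Agent.Lib.Forms.KleinSL2
import Cfsg.Agent.Lib.Involutions.ThompsonTransfer

/-!
One class of involutions in `G₂(q)`, `q` odd, and the structure of their centralizers.
-/

set_option autoImplicit false

open scoped MatrixGroups Matrix

namespace Cfsg.Agent.GroupStructure3.G2Inv

open Cfsg.Lie Cfsg.Agent.Chevalley.Table Cfsg.Agent.Chevalley.Cert Cfsg.Agent.Chevalley.Relations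
  Cfsg.Agent.Chevalley.Group Cfsg.Agent.Chevalley.Borel Cfsg.Agent.Chevalley.SL2

variable {F : Type*} [Field F]

/-- Conjugacy by an element of the Chevalley group. -/
def Cj (x y : A F) : Prop := ∃ g ∈ chevG2.group F, g * x * g⁻¹ = y

theorem Cj.refl (x : A F) : Cj x x := ⟨1, one_mem _, by group⟩

theorem Cj.symm {x y : A F} : Cj x y → Cj y x := by
  rintro ⟨g, hg, rfl⟩
  exact ⟨g⁻¹, inv_mem hg, by group⟩

theorem Cj.trans {x y z : A F} : Cj x y → Cj y z → Cj x z := by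
  rintro ⟨g, hg, rfl⟩ ⟨h, hh, rfl⟩
  exact ⟨h * g, mul_mem hh hg, by group⟩

/-! ### The torus -/

theorem simple_conj_tt {i : ℕ} (hi : i < 2) (x y : Fˣ) :
    Cj (tt x y) (tt (x ^ cA (chevG2.reflectRoot i 7) * y ^ cB (chevG2.reflectRoot i 7))
      (x ^ cA (chevG2.reflectRoot i 6) * y ^ cB (chevG2.reflectRoot i 6))) := by
  obtain ⟨c', e, hc'⟩ := ng_conj_tor (F := F) hC (i := i) hi (tc x y)
  refine ⟨_, ng_mem_group hC (hC.simple_lt hi) (1 : F), ?_⟩
  rw [tt, e]
  refine tor_ext ?_ ?_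
  · rw [hc' 7 (lt12 (by omega)), torChar_tc_seven,
      torChar_tc _ _ (hC.reflect_lt hi (lt12 (r := 7) (by omega)))]
  · rw [hc' 6 (lt12 (by omega)), torChar_tc_six,
      torChar_tc _ _ (hC.reflect_lt hi (lt12 (r := 6) (by omega)))]

theorem tt_swap_zero (x y : Fˣ) : Cj (tt x y) (tt x⁻¹ (x ^ 3 * y)) := by
  have h := simple_conj_tt (i := 0) (by omega) x y
  rwa [show chevG2.reflectRoot 0 7 = 4 by decide +kernel,
    show chevG2.reflectRoot 0 6 = 10 by decide +kernel, show cA 4 = -1 from rfl,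
    show cB 4 = 0 from rfl, show cA 10 = 3 from rfl, show cB 10 = 1 from rfl, zpow_zero, mul_one,
    zpow_one, zpow_neg_one, show x ^ (3 : ℤ) = x ^ 3 from zpow_natCast x 3] at h

theorem nu_conj (x y : Fˣ) :
    ng hC 7 (1 : F) * tt x y * (ng hC 7 (1 : F))⁻¹ = tt x⁻¹ (x ^ 3 * y) := by
  obtain ⟨c', e, hc'⟩ := ng_conj_tor (F := F) hC (i := 0) (by decide +kernel) (tc x y)
  rw [show chevG2.simple 0 = 7 from rfl] at e
  rw [tt, e]
  refine tor_ext ?_ ?_
  · rw [hc' 7 (lt12 (by omega)), torChar_tc_seven, show chevG2.reflectRoot 0 7 = 4 by decide +kernel,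
      torChar_tc _ _ (by omega), show cA 4 = -1 from rfl, show cB 4 = 0 from rfl]
    simp
  · rw [hc' 6 (lt12 (by omega)), torChar_tc_six, show chevG2.reflectRoot 0 6 = 10 by decide +kernel,
      torChar_tc _ _ (by omega), show cA 10 = 3 from rfl, show cB 10 = 1 from rfl]
    norm_cast
    simp

theorem tt_swap_one (x y : Fˣ) : Cj (tt x y) (tt (x * y) y⁻¹) := by
  have h := simple_conj_tt (i := 1) (by omega) x y
  rwa [show chevG2.reflectRoot 1 7 = 8 by decide +kernel,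
    show chevG2.reflectRoot 1 6 = 5 by decide +kernel, show cA 8 = 1 from rfl,
    show cB 8 = 1 from rfl, show cA 5 = 0 from rfl, show cB 5 = -1 from rfl, zpow_zero, one_mul,
    zpow_one, zpow_one, zpow_neg_one] at h

theorem H_involution {h : A F} (hh : h ∈ chevG2.diagonalSubgroup F) (h1 : h * h = 1) (hne : h ≠ 1) :
    Cj h t₀ := by
  obtain ⟨x, y, rfl⟩ := exists_tt hh
  rw [tt_mul, ← tt_one] at h1
  obtain ⟨hx, hy⟩ := tt_inj h1
  have sq : ∀ u : Fˣ, u * u = 1 → u = 1 ∨ u = -1 := by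
    intro u hu
    rcases mul_self_eq_one_iff.1 (show (u : F) * u = 1 by rw [← Units.val_mul, hu, Units.val_one])
      with h | h
    · exact Or.inl (Units.ext h)
    · exact Or.inr (Units.ext (by simpa using h))
  have e1 : Cj (tt (-1 : Fˣ) (-1)) (t₀ : A F) := by
    have := tt_swap_zero (-1 : Fˣ) (-1)
    rw [t₀_eq_tt]
    convert this using 2 <;> (apply Units.ext; push_cast; ring)
  rcases sq x hx with rfl | rfl <;> rcases sq y hy with rfl | rfl
  · exact absurd tt_one hne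
  · refine Cj.trans ?_ e1
    convert tt_swap_one (1 : Fˣ) (-1) using 2 <;> (apply Units.ext; push_cast; ring)
  · rw [t₀_eq_tt]; exact Cj.refl _
  · exact e1

/-! ### Elements of `SL₂` -/

theorem sl2_sq_one (h2 : (2 : F) ≠ 0) {g : SL(2, F)} (hg : g * g = 1) : g = 1 ∨ g = -1 := by
  have h00 := congrArg (fun k : SL(2, F) => el k 0 0) hg
  have h01 := congrArg (fun k : SL(2, F) => el k 0 1) hg
  have h10 := congrArg (fun k : SL(2, F) => el k 1 0) hg
  simp only [el_mul] at h00 h01 h10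
  simp [el] at h00 h01 h10
  have hdet := el_det g
  simp only [el] at hdet
  set a := (g : Matrix (Fin 2) (Fin 2) F) 0 0
  set b := (g : Matrix (Fin 2) (Fin 2) F) 0 1
  set c := (g : Matrix (Fin 2) (Fin 2) F) 1 0
  set d := (g : Matrix (Fin 2) (Fin 2) F) 1 1
  have hs : a + d ≠ 0 := fun h => h2 (by linear_combination a * h - h00 - hdet)
  have hb : b = 0 := (mul_eq_zero.1 (show b * (a + d) = 0 by linear_combination h01)).resolve_right hs
  have hc : c = 0 := (mul_eq_zero.1 (show c * (a + d) = 0 by linear_combination h10)).resolve_right hs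
  rw [hb, zero_mul, sub_zero] at hdet
  rw [hb, zero_mul, add_zero] at h00
  have hd : d = a := by
    linear_combination a * hdet - d * h00
  rcases mul_self_eq_one_iff.1 h00 with h | h
  · left
    apply Subtype.ext
    ext i j
    fin_cases i <;> fin_cases j <;> simp
    · exact h
    · exact hb
    · exact hc
    · exact hd.trans h
  · right
    apply Subtype.ext
    ext i j
    fin_cases i <;> fin_cases j <;> simp
    · exact h
    · exact hb
    · exact hc
    · exact hd.trans h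

/-- An element twisted by `diag(-1,1)` squaring to `±1` is a twisted coboundary when `-1` is a
non-square. -/
theorem exists_cj_split (h2 : (2 : F) ≠ 0) (hns : ¬ IsSquare (-1 : F)) {g : SL(2, F)}
    (hg : g * cj (-1) g = 1 ∨ g * cj (-1) g = -1) : ∃ P : SL(2, F), g * cj (-1) P = P := by
  obtain ⟨σ, hσ, h⟩ : ∃ σ : F, (σ = 1 ∨ σ = -1) ∧
      ((g * cj (-1) g : SL(2, F)) : Matrix (Fin 2) (Fin 2) F) = !![σ, 0; 0, σ] := by
    rcases hg with h | h
    · refine ⟨1, Or.inl rfl, ?_⟩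
      rw [h]
      ext i j
      fin_cases i <;> fin_cases j <;> simp
    · refine ⟨-1, Or.inr rfl, ?_⟩
      rw [h]
      ext i j
      fin_cases i <;> fin_cases j <;> simp
  have h00 := congrFun (congrFun h 0) 0
  have h11 := congrFun (congrFun h 1) 1
  have h01 := congrFun (congrFun h 0) 1
  have h10 := congrFun (congrFun h 1) 0
  simp [Matrix.mul_apply, Fin.sum_univ_two, el, div_neg] at h00 h11 h01 h10
  have hdet := el_det g
  simp only [el] at hdet
  obtain ⟨a, ha⟩ : ∃ a, a = (g : Matrix (Fin 2) (Fin 2) F) 0 0 := ⟨_, rfl⟩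
  obtain ⟨b, hb⟩ : ∃ b, b = (g : Matrix (Fin 2) (Fin 2) F) 0 1 := ⟨_, rfl⟩
  obtain ⟨c, hc⟩ : ∃ c, c = (g : Matrix (Fin 2) (Fin 2) F) 1 0 := ⟨_, rfl⟩
  obtain ⟨d, hd⟩ : ∃ d, d = (g : Matrix (Fin 2) (Fin 2) F) 1 1 := ⟨_, rfl⟩
  simp only [← ha, ← hb, ← hc, ← hd] at h00 h11 h01 h10 hdet
  have had : d = a := by
    by_contra hne
    have hne' : d - a ≠ 0 := sub_ne_zero.2 hne
    have hb0 : b = 0 :=
      (mul_eq_zero.1 (show b * (d - a) = 0 by linear_combination h01)).resolve_right hne'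
    rw [hb0] at h00 h11 hdet
    rcases hσ with rfl | rfl
    · exact hne (by linear_combination a * hdet - d * h00)
    · exact hns ⟨a, by linear_combination -h00⟩
  rw [had] at h01 h10 hdet
  have hbc : (a - 1) * (a + 1) = b * c := by linear_combination hdet
  suffices key : ∃ p q r s : F, p * s - q * r ≠ 0 ∧ (a - 1) * p = b * r ∧ c * p = (a + 1) * r ∧
      (a + 1) * q = b * s ∧ c * q = (a - 1) * s by
    obtain ⟨p, q, r, s, hD, e1, e2, e3, e4⟩ := key
    obtain ⟨P, hP⟩ : ∃ P : SL(2, F), (P : Matrix (Fin 2) (Fin 2) F) =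
        !![p, q / (p * s - q * r); r, s / (p * s - q * r)] := by
      refine ⟨⟨_, ?_⟩, rfl⟩
      rw [Matrix.det_fin_two_of]
      field_simp
    refine ⟨P, ?_⟩
    apply Subtype.ext
    rw [Matrix.SpecialLinearGroup.coe_mul, coe_cj, hP]
    ext i j
    fin_cases i <;> fin_cases j <;>
        simp [Matrix.mul_apply, Fin.sum_univ_two, el, hP, ← ha, ← hb, ← hc, ← hd, had, div_neg]
    · linear_combination e1
    · field_simp
      linear_combination -e3
    · linear_combination e2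
    · field_simp
      linear_combination -e4
  by_cases h1 : a + 1 = 0
  · refine ⟨b, a - 1, a - 1, c, ?_, by ring, ?_, ?_, ?_⟩
    · intro h0
      have : (2 : F) * 2 = 0 := by
        linear_combination -h0 - hbc + (2 : F) * h1
      exact h2 (mul_self_eq_zero.1 this)
    · linear_combination -hbc
    · linear_combination hbc
    · ring
  · refine ⟨a + 1, b, c, a + 1, ?_, ?_, ?_, ?_, ?_⟩
    · intro h0
      exact h1 ((mul_eq_zero.1 (show (2 : F) * (a + 1) = 0 by
        linear_combination h0 - hbc)).resolve_left h2)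
    · linear_combination hbc
    · ring
    · ring
    · linear_combination -hbc

/-! ### Involutions of the candidate centralizer -/

theorem units_isSquare_iff {y : Fˣ} : IsSquare y ↔ IsSquare (y : F) := by
  constructor
  · exact fun h => h.map (Units.coeHom F)
  · rintro ⟨r, hr⟩
    have hr0 : r ≠ 0 := fun h => y.ne_zero (by rw [hr, h, mul_zero])
    exact ⟨Units.mk0 r hr0, Units.ext hr⟩

theorem isSquare_mul_of_not [Fintype F] {x y : Fˣ} (hx : ¬ IsSquare x) (hy : ¬ IsSquare y) :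
    IsSquare (x * y) := by
  classical
  rw [units_isSquare_iff] at hx hy ⊢
  rw [← quadraticChar_one_iff_isSquare (Units.ne_zero _), Units.val_mul, map_mul,
    quadraticChar_neg_one_iff_not_isSquare.2 hx, quadraticChar_neg_one_iff_not_isSquare.2 hy]
  norm_num

theorem inner_involution [Fintype F] (h2 : (2 : F) ≠ 0) {t : A F} (ht : t ∈ (φ (F := F)).range)
    (h1 : t * t = 1) (hne : t ≠ 1) :
    t = t₀ ∨ Cj (φ (Forms.KleinSL2.jSL, Forms.KleinSL2.jSL)) t := by
  obtain ⟨⟨g, g'⟩, rfl⟩ := ht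
  rw [← map_mul, Prod.mk_mul_mk] at h1
  rcases φ_eq_one h1 with ⟨e, e'⟩ | ⟨e, e'⟩
  · left
    rcases sl2_sq_one h2 e with rfl | rfl <;> rcases sl2_sq_one h2 e' with rfl | rfl
    · exact absurd (map_one φ) hne
    · rw [φ_apply, map_one, one_mul, φ₂_neg_one]
    · rw [φ_apply, map_one, mul_one, t₀]
    · exfalso
      refine hne ?_
      have : (t₀ : A F) * t₀ = 1 := by
        rw [t₀, ← map_mul, show (-1 : SL(2, F)) * -1 = 1 by simp, map_one]
      rwa [φ_apply, φ₂_neg_one]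
  · right
    obtain ⟨k, hk⟩ := Forms.KleinSL2.exists_conj_j h2 e
    obtain ⟨k', hk'⟩ := Forms.KleinSL2.exists_conj_j h2 e'
    refine ⟨φ (k, k'), φ_mem_group _, ?_⟩
    rw [← map_inv, ← map_mul, ← map_mul]
    simp only [Prod.inv_mk, Prod.mk_mul_mk, hk, hk']

theorem cj_tt (g g' : SL(2, F)) :
    tt (1 : Fˣ) (-1) * φ (g, g') * (tt (1 : Fˣ) (-1))⁻¹ = φ (cj (-1) g, cj (-1) g') := by
  rw [tt_conj_φ]
  simp

theorem outer_involution [Fintype F] (h2 : (2 : F) ≠ 0) (hns : ¬ IsSquare (-1 : F)) {t : A F} (ht : t ∈ MM F)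
    (hto : t ∉ (φ (F := F)).range) (h1 : t * t = 1) : Cj (tt (1 : Fˣ) (-1)) t := by
  obtain ⟨g, g', rfl⟩ : ∃ g g', t = φ (g, g') * tt (1 : Fˣ) (-1) := by
    obtain ⟨p, x, y, rfl⟩ := mem_MM_iff.1 ht
    have hy : ¬ IsSquare y := fun h => hto (mul_mem ⟨p, rfl⟩ ((tt_mem_range_iff x y).2 h))
    have hy' : IsSquare (y * (-1)) :=
      isSquare_mul_of_not hy fun h => hns (by simpa using h.map (Units.coeHom F))
    obtain ⟨⟨a, b⟩, hab⟩ := (tt_mem_range_iff x (y * -1)).2 hy'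
    refine ⟨p.1 * a, p.2 * b, ?_⟩
    rw [← Prod.mk_mul_mk, map_mul, hab, mul_assoc, tt_mul]
    congr 2 <;> simp
  obtain ⟨d, hd⟩ : ∃ d, d = tt (1 : Fˣ) (-1) := ⟨_, rfl⟩
  have hdd : d * d = 1 := by
    rw [hd, tt_mul, ← tt_one]; congr 1 <;> simp
  rw [← hd] at h1 ⊢
  have e : φ (g * cj (-1) g, g' * cj (-1) g') = 1 := by
    rw [← Prod.mk_mul_mk, map_mul, ← cj_tt, ← hd]
    calc φ (g, g') * (d * φ (g, g') * d⁻¹)
        = φ (g, g') * d * (φ (g, g') * d) * (d * d)⁻¹ := by group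
      _ = 1 := by rw [h1, hdd, inv_one, one_mul]
  obtain ⟨P, hP⟩ := exists_cj_split h2 hns (g := g)
    ((φ_eq_one e).imp (fun h => h.1) (fun h => h.1))
  obtain ⟨P', hP'⟩ := exists_cj_split h2 hns (g := g')
    ((φ_eq_one e).imp (fun h => h.2) (fun h => h.2))
  refine ⟨φ (P, P'), φ_mem_group _, ?_⟩
  calc φ (P, P') * d * (φ (P, P'))⁻¹
      = φ (P, P') * (d * φ (P, P') * d⁻¹)⁻¹ * d := by group
    _ = φ (P, P') * (φ (cj (-1) P, cj (-1) P'))⁻¹ * d := by rw [hd, cj_tt]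
    _ = φ (g, g') * d := by
      rw [← map_inv, ← map_mul]
      congr 2
      rw [Prod.inv_mk, Prod.mk_mul_mk]
      exact Prod.ext (mul_inv_eq_of_eq_mul hP.symm) (mul_inv_eq_of_eq_mul hP'.symm)

/-! ### The class of `φ(j, j)` -/

theorem φ_neg_neg : φ ((-1 : SL(2, F)), (-1 : SL(2, F))) = 1 := by
  rw [φ_apply, φ₂_neg_one, t₀, ← map_mul]
  simp

theorem t₀_ne_one (h2 : (2 : F) ≠ 0) : (t₀ : A F) ≠ 1 := by
  rw [t₀_eq_tt, ← tt_one]
  intro h
  have := congrArg (fun u : Fˣ => (u : F)) (tt_inj h).1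
  simp at this
  exact h2 (by linear_combination -this)

theorem t₀_sq : (t₀ : A F) * t₀ = 1 := by
  rw [t₀, ← map_mul]; simp

theorem y_conj [Fintype F] (h2 : (2 : F) ≠ 0) :
    Cj (φ (Forms.KleinSL2.jSL (F := F), Forms.KleinSL2.jSL (F := F))) t₀ := by
  obtain ⟨j, hj⟩ : ∃ j : SL(2, F), j = Forms.KleinSL2.jSL := ⟨_, rfl⟩
  have hjj : j * j = -1 := hj ▸ Forms.KleinSL2.jSL_sq
  have hm1 : (-1 : SL(2, F)) ≠ 1 := fun h => t₀_ne_one h2 (by rw [t₀, h, map_one])
  rw [← hj]
  obtain ⟨y, hy⟩ : ∃ y, y = φ (j, j) := ⟨_, rfl⟩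
  rw [← hy]
  have hy2 : y * y = 1 := by rw [hy, ← map_mul, Prod.mk_mul_mk, hjj, φ_neg_neg]
  have hy1 : y ≠ 1 := by
    intro h
    rcases φ_eq_one (hy ▸ h) with ⟨e, -⟩ | ⟨e, -⟩ <;> rw [e] at hjj <;> simp at hjj <;>
      exact hm1 hjj.symm
  by_cases hsq : IsSquare (-1 : F)
  · obtain ⟨i, hi⟩ := hsq
    have hi0 : i ≠ 0 := fun h => by simp [h] at hi
    have hsd : (sd i : SL(2, F)) * sd i = -1 := by
      apply Subtype.ext
      rw [Matrix.SpecialLinearGroup.coe_mul, coe_sd hi0]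
      ext a b
      fin_cases a <;> fin_cases b <;> simp [Matrix.mul_apply, Fin.sum_univ_two]
      · exact hi.symm
      · rw [← mul_inv, ← hi]; simp
    obtain ⟨k, hk⟩ := Forms.KleinSL2.exists_conj_j h2 hsd
    rw [← hj] at hk
    have hc : Cj y (φ (sd i, sd i)) := ⟨φ (k, k), φ_mem_group _, by
      rw [hy, ← map_inv, ← map_mul, ← map_mul, Prod.inv_mk, Prod.mk_mul_mk, Prod.mk_mul_mk, hk]⟩
    refine hc.trans (H_involution ?_ ?_ ?_)
    · rw [show i = ((Units.mk0 i hi0 : Fˣ) : F) from rfl, φ_sd]; exact tt_mem_H _ _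
    · rw [← map_mul, Prod.mk_mul_mk, hsd, φ_neg_neg]
    · intro h
      rcases φ_eq_one h with ⟨e, -⟩ | ⟨e, -⟩ <;> rw [e] at hsd <;> simp at hsd <;>
        exact hm1 hsd.symm
  obtain ⟨ν, hν⟩ : ∃ ν, ν = ng hC 7 (1 : F) := ⟨_, rfl⟩
  have hνG : ν ∈ chevG2.group F := hν ▸ ng_mem_group hC (lt12 (by omega)) _
  obtain ⟨d', hd'⟩ : ∃ d', d' = tt (-1 : Fˣ) (-1) := ⟨_, rfl⟩
  have e1 : ν * d' * ν⁻¹ = t₀ := by
    rw [hν, hd', nu_conj, t₀_eq_tt]
    congr 1 <;> (apply Units.ext; push_cast; ring)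
  have e2 : ν * t₀ * ν⁻¹ = d' := by
    rw [hν, hd', t₀_eq_tt, nu_conj]
    congr 1 <;> (apply Units.ext; push_cast; ring)
  have hcj : ∀ u : Fˣ, (u : F) = -1 → cj u j = -1 * j := by
    intro u hu
    apply Subtype.ext
    rw [coe_cj, Matrix.SpecialLinearGroup.coe_mul, hu]
    simp only [el, hj, Forms.KleinSL2.coe_jSL, Matrix.SpecialLinearGroup.coe_neg,
      Matrix.SpecialLinearGroup.coe_one]
    ext a b
    fin_cases a <;> fin_cases b <;> simp [Forms.KleinSL2.cM]
  have hdy : d' * y * d'⁻¹ = y := by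
    rw [hd', hy, tt_conj_φ, hcj _ (by simp), hcj _ (by simp), ← Prod.mk_mul_mk, map_mul, φ_neg_neg,
      one_mul]
  obtain ⟨y', hy'⟩ : ∃ y', y' = ν * y * ν⁻¹ := ⟨_, rfl⟩
  have hyc : Commute y d' := (mul_inv_eq_iff_eq_mul.1 hdy).symm
  have hy'M : y' ∈ MM F := by
    refine mem_MM_of_commute h2 ?_ ?_
    · rw [hy']; exact mul_mem (mul_mem hνG (hy ▸ φ_mem_group _)) (inv_mem hνG)
    · rw [← e1, hy']
      exact (SemiconjBy.conj_iff).2 hyc
  have hy'2 : y' * y' = 1 := by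
    rw [hy', show ν * y * ν⁻¹ * (ν * y * ν⁻¹) = ν * (y * y) * ν⁻¹ by group, hy2]
    group
  have hout : ∀ z ∈ MM F, z ∉ (φ (F := F)).range → z * z = 1 → Cj z t₀ := by
    intro z hz hzo hz2
    refine ((outer_involution h2 hsq hz hzo hz2).symm).trans ?_
    refine H_involution (tt_mem_H _ _) ?_ ?_
    · rw [tt_mul, ← tt_one]; congr 1 <;> simp
    · rw [← tt_one]
      intro h
      have := congrArg (fun u : Fˣ => (u : F)) (tt_inj h).2
      simp at this
      exact h2 (by linear_combination -this)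
  by_cases hin : y' ∈ (φ (F := F)).range
  swap
  · exact Cj.trans ⟨ν, hνG, hy'.symm⟩ (hout y' hy'M hin hy'2)
  have hyt : Commute y t₀ := hy ▸ MM_commute_t₀ (φ_mem_MM _)
  obtain ⟨z, hz⟩ : ∃ z, z = ν * (y * t₀) * ν⁻¹ := ⟨_, rfl⟩
  have hz' : z = y' * d' := by rw [hz, hy', ← e2]; group
  have hzM : z ∈ MM F := hz' ▸ mul_mem hy'M (hd' ▸ tt_mem_MM _ _)
  have hzo : z ∉ (φ (F := F)).range := by
    intro h
    rw [hz', Subgroup.mul_mem_cancel_left _ hin, hd', tt_mem_range_iff, units_isSquare_iff] at h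
    exact hsq (by simpa using h)
  have hz2 : z * z = 1 := by
    rw [hz, show ν * (y * t₀) * ν⁻¹ * (ν * (y * t₀) * ν⁻¹) = ν * ((y * t₀) * (y * t₀)) * ν⁻¹ by
      group, hyt.symm.mul_mul_mul_comm, hy2, t₀_sq]
    group
  refine Cj.trans ?_ (Cj.trans ⟨ν, hνG, hz.symm⟩ (hout z hzM hzo hz2))
  obtain ⟨k, hk⟩ := Forms.KleinSL2.exists_conj_j h2 (A := -1 * j) (by
    rw [show (-1 * j : SL(2, F)) * (-1 * j) = j * j by simp, hjj])
  rw [← hj] at hk
  refine ⟨φ (k, 1), φ_mem_group _, ?_⟩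
  have ht : (t₀ : A F) = φ ((-1 : SL(2, F)), 1) := by rw [φ_apply, map_one, mul_one, t₀]
  rw [hy, ht, ← map_inv, ← map_mul, ← map_mul, ← map_mul]
  refine congrArg φ (Prod.ext ?_ ?_)
  · show k * j * k⁻¹ = j * -1
    rw [hk]; simp
  · show (1 : SL(2, F)) * j * (1 : SL(2, F))⁻¹ = j * 1
    simp

/-! ### Orders -/

theorem exists_nonsquare_unit [Fintype F] (h2 : (2 : F) ≠ 0) : ∃ ε : Fˣ, ¬ IsSquare ε := by
  have hr : ringChar F ≠ 2 := fun h => h2 (by
    have := ringChar.Nat.cast_ringChar (R := F)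
    rw [h] at this
    exact_mod_cast this)
  obtain ⟨e, he⟩ := FiniteField.exists_nonsquare hr
  have he0 : e ≠ 0 := fun h => he (h ▸ IsSquare.zero)
  exact ⟨Units.mk0 e he0, fun h => he ((units_isSquare_iff).1 h)⟩

theorem relIndex_range [Fintype F] (h2 : (2 : F) ≠ 0) :
    (φ (F := F)).range.relIndex (MM F) = 2 := by
  obtain ⟨ε, hε⟩ := exists_nonsquare_unit h2
  rw [Subgroup.relIndex, Subgroup.index_eq_two_iff]
  refine ⟨⟨tt 1 ε, tt_mem_MM _ _⟩, fun b => ?_⟩
  obtain ⟨p, x, y, hb⟩ := mem_MM_iff.1 b.2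
  simp only [Subgroup.mem_subgroupOf, Subgroup.coe_mul, hb, mul_assoc, tt_mul,
    Subgroup.mul_mem_cancel_left _ (show φ p ∈ φ.range from ⟨p, rfl⟩), tt_mem_range_iff]
  by_cases hy : IsSquare y
  · refine Or.inr ⟨hy, fun h => hε ?_⟩
    have := hy.inv.mul h
    rwa [inv_mul_cancel_left] at this
  · exact Or.inl ⟨isSquare_mul_of_not hy hε, hy⟩

theorem card_range [Fintype F] (h2 : (2 : F) ≠ 0) :
    2 * Nat.card (φ (F := F)).range = (Fintype.card F * (Fintype.card F ^ 2 - 1)) ^ 2 := by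
  have hk : Nat.card (φ (F := F)).ker = 2 := by
    rw [Nat.card_eq_two_iff]
    refine ⟨⟨1, one_mem _⟩, ⟨(-1, -1), φ_neg_neg⟩, ?_, ?_⟩
    · intro h
      exact t₀_ne_one h2 (by
        rw [t₀, show (-1 : SL(2, F)) = 1 from (congrArg (fun q => q.1.1) h).symm, map_one])
    · refine Set.eq_univ_of_forall fun ⟨⟨g, g'⟩, hg⟩ => ?_
      rcases φ_eq_one hg with ⟨rfl, rfl⟩ | ⟨rfl, rfl⟩
      · exact Or.inl rfl
      · exact Or.inr rfl
  have := (φ (F := F)).ker.card_mul_index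
  rw [hk, Subgroup.index_ker, Nat.card_prod, Cfsg.Agent.GL2.Counts.natCard_SL] at this
  rw [this, sq (Fintype.card F * _)]

theorem card_MM [Fintype F] (h2 : (2 : F) ≠ 0) :
    Nat.card (MM F) = (Fintype.card F * (Fintype.card F ^ 2 - 1)) ^ 2 := by
  rw [← card_range h2, ← Subgroup.relIndex_bot_left (MM F),
    ← Subgroup.relIndex_mul_relIndex ⊥ (φ (F := F)).range (MM F) bot_le le_sup_left,
    relIndex_range h2, Subgroup.relIndex_bot_left, mul_comm]

theorem card_group [Fintype F] : Nat.card (chevG2.group F) =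
    Fintype.card F ^ 6 * ((Fintype.card F ^ 2 - 1) * (Fintype.card F ^ 6 - 1)) := by
  have h := Cfsg.Agent.Chevalley.Types.OrderG2.card_group F
  simpa [Cfsg.Agent.Chevalley.Types.OrderG2.ed, Fin.prod_univ_two] using h

theorem two_ne (F : Type*) [Field F] [Fintype F] (hF : Odd (Fintype.card F)) : (2 : F) ≠ 0 := by
  intro h
  have hd : Fintype.card F % 2 = 0 := by
    refine Nat.mod_eq_zero_of_dvd ?_ |>.trans rfl
    obtain ⟨p, hp⟩ := CharP.exists F
    have hp2 : p ∣ 2 := (CharP.cast_eq_zero_iff F p 2).1 (by exact_mod_cast h)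
    obtain ⟨n, hpp, hn⟩ := FiniteField.card F p
    rw [hn, (Nat.prime_dvd_prime_iff_eq hpp Nat.prime_two).1 hp2]
    exact dvd_pow_self 2 n.ne_zero
  rw [Nat.odd_iff] at hF
  omega

theorem index_odd [Fintype F] (hF : Odd (Fintype.card F)) :
    Odd ((MM F).subgroupOf (chevG2.group F)).index := by
  have h2 := two_ne F hF
  have h := ((MM F).subgroupOf (chevG2.group F)).card_mul_index
  rw [Nat.card_congr (Subgroup.subgroupOfEquivOfLe MM_le_group).toEquiv, card_MM h2, card_group] at h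
  have h1 : 1 < Fintype.card F := Fintype.one_lt_card
  generalize ((MM F).subgroupOf (chevG2.group F)).index = i at h ⊢
  generalize Fintype.card F = q at h h1 hF
  obtain ⟨r, hr⟩ : ∃ r, q ^ 2 = r + 1 := ⟨q ^ 2 - 1, by
    have := Nat.one_le_pow 2 q (by omega); omega⟩
  have h6 : q ^ 6 - 1 = r * (r * r + 3 * r + 3) := by
    rw [show q ^ 6 = (q ^ 2) ^ 3 by ring, hr, show (r + 1) ^ 3 = r * (r * r + 3 * r + 3) + 1 by ring,
      Nat.add_sub_cancel]
  have hr0 : 0 < r := by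
    have : 2 ^ 2 ≤ q ^ 2 := Nat.pow_le_pow_left (by omega) 2
    omega
  rw [h6, hr, Nat.add_sub_cancel, mul_pow, hr, show q ^ 6 = (q ^ 2) ^ 3 by ring, hr] at h
  have h' : i = (r + 1) ^ 2 * (r * r + 3 * r + 3) := by
    refine Nat.eq_of_mul_eq_mul_left (show 0 < (r + 1) * r ^ 2 by positivity) ?_
    rw [h]; ring
  have hodd : Odd (r + 1) := hr ▸ hF.pow
  rw [h']
  refine hodd.pow.mul ?_
  rw [show r * r + 3 * r + 3 = (r + 1) * (r + 1) + (r + 1) + 1 by ring]
  exact ((hodd.mul hodd).add_odd hodd).add_one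

/-! ### The main results -/

theorem exists_conj_range [Fintype F] (hF : Odd (Fintype.card F)) (t : chevG2.group F)
    (ht : orderOf t = 2) :
    ∃ g : chevG2.group F, ((g * t * g⁻¹ : chevG2.group F) : A F) ∈ (φ (F := F)).range := by
  have : Fact (Nat.Prime 2) := ⟨Nat.prime_two⟩
  have h2 := two_ne F hF
  have : Finite (A F) := inferInstance
  obtain ⟨MG, hMG⟩ : ∃ MG, MG = (MM F).subgroupOf (chevG2.group F) := ⟨_, rfl⟩
  obtain ⟨M0, hM0⟩ : ∃ M0, M0 = (φ (F := F)).range.subgroupOf (chevG2.group F) := ⟨_, rfl⟩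
  have hM0le : M0 ≤ MG := by
    rw [hMG, hM0]; exact fun x hx => Subgroup.mem_sup_left (Subgroup.mem_subgroupOf.1 hx)
  have hrel : M0.relIndex MG = 2 := by
    have e := Subgroup.relIndex_map_map_of_injective M0 MG
      (chevG2.group F).subtype_injective
    rw [← e, hM0, hMG, Subgroup.map_subgroupOf_eq_of_le (le_trans le_sup_left MM_le_group),
      Subgroup.map_subgroupOf_eq_of_le MM_le_group, relIndex_range h2]
  have hodd : Odd MG.index := hMG ▸ index_odd hF
  obtain ⟨S0⟩ : Nonempty (Sylow 2 MG) := inferInstance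
  let P : Subgroup (chevG2.group F) := (S0 : Subgroup MG).map MG.subtype
  have hP : Nat.card P = 2 ^ (Nat.card (chevG2.group F)).factorization 2 := by
    rw [← Nat.card_congr (Subgroup.equivMapOfInjective _ _ MG.subtype_injective).toEquiv,
      S0.card_eq_multiplicity, ← MG.card_mul_index, Nat.factorization_mul Nat.card_pos.ne'
        Subgroup.index_ne_zero_of_finite, Finsupp.add_apply,
      Nat.factorization_eq_zero_of_not_dvd (show ¬ 2 ∣ MG.index from hodd.not_two_dvd_nat),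
      add_zero]
  obtain ⟨S, hS⟩ : ∃ S : Sylow 2 (chevG2.group F), (S : Subgroup (chevG2.group F)) = P :=
    ⟨Sylow.ofCard P hP, rfl⟩
  have hSM : (S : Subgroup (chevG2.group F)) ≤ MG := hS ▸ Subgroup.map_subtype_le _
  have hnot : ¬ (S : Subgroup (chevG2.group F)) ≤ M0 := by
    intro hle
    have h1 := Subgroup.relIndex_mul_index (le_trans hle hM0le)
    have h3 := Subgroup.relIndex_mul_relIndex _ _ _ hle hM0le
    rw [hrel] at h3
    exact S.not_dvd_index ⟨(S : Subgroup (chevG2.group F)).relIndex M0 * MG.index, by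
      rw [← h1, ← h3]; ring⟩
  obtain ⟨a, haS, ha⟩ := SetLike.not_le_iff_exists.1 hnot
  have hrelS : (M0 ⊓ (S : Subgroup (chevG2.group F))).relIndex S = 2 := by
    rw [Subgroup.inf_relIndex_right, Subgroup.relIndex, Subgroup.index_eq_two_iff]
    refine ⟨⟨a, haS⟩, fun b => ?_⟩
    simp only [Subgroup.mem_subgroupOf, Subgroup.coe_mul]
    have key := Subgroup.mul_mem_iff_of_index_two (H := M0.subgroupOf MG) hrel
      (a := ⟨b, hSM b.2⟩) (b := ⟨a, hSM haS⟩)
    simp only [Subgroup.mem_subgroupOf, Subgroup.coe_mul] at key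
    by_cases hb : (b : chevG2.group F) ∈ M0
    · exact Or.inr ⟨hb, fun h => ha ((key.1 h).1 hb)⟩
    · exact Or.inl ⟨key.2 (iff_of_false hb ha), hb⟩
  have hperf := Cfsg.Agent.Chevalley.Types.SimpleG2.perfect F ⟨-1, by simp, fun h => h2 (by
    linear_combination -h)⟩
  have hG : ∀ K : Subgroup (chevG2.group F), K.index ≠ 2 := by
    intro K hK
    have := Subgroup.normal_of_index_eq_two hK
    have : IsCyclic (chevG2.group F ⧸ K) := isCyclic_of_prime_card (p := 2) hK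
    have hab : IsMulCommutative (chevG2.group F ⧸ K) := IsCyclic.isMulCommutative
    have hle : commutator (chevG2.group F) ≤ K :=
      Subgroup.Normal.quotient_commutative_iff_commutator_le.1 hab
    rw [hperf, top_le_iff] at hle
    rw [hle, Subgroup.index_top] at hK
    omega
  obtain ⟨g, hg⟩ := Involutions.ThompsonTransfer.exists_conj_mem hG S _ inf_le_right hrelS t ht
  refine ⟨g, ?_⟩
  obtain ⟨hg1, -⟩ := Subgroup.mem_inf.1 hg
  rw [hM0] at hg1
  exact Subgroup.mem_subgroupOf.1 hg1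

theorem involution_conj [Fintype F] (hF : Odd (Fintype.card F)) (t : chevG2.group F)
    (ht : orderOf t = 2) : Cj (t : A F) t₀ := by
  have h2 := two_ne F hF
  obtain ⟨g, hg⟩ := exists_conj_range hF t ht
  obtain ⟨z, hz⟩ : ∃ z, z = g * t * g⁻¹ := ⟨_, rfl⟩
  rw [← hz] at hg
  have hzo : orderOf z = 2 := by
    rw [hz, ← MulAut.conj_apply, MulEquiv.orderOf_eq, ht]
  have hz2 : (z : A F) * z = 1 := by
    have := pow_orderOf_eq_one z
    rw [hzo, sq] at this
    exact congrArg Subtype.val this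
  have hz1 : (z : A F) ≠ 1 := by
    intro h
    rw [show z = 1 from Subtype.ext h, orderOf_one] at hzo
    omega
  refine Cj.trans ⟨g, g.2, ?_⟩ (show Cj (z : A F) t₀ from ?_)
  · rw [hz]; rfl
  rcases inner_involution h2 hg hz2 hz1 with h | h
  · rw [h]; exact Cj.refl _
  · exact h.symm.trans (y_conj h2)

end Cfsg.Agent.GroupStructure3.G2Inv
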