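import Cfsg.Agent.Lib.Chevalley.SL2
import Cfsg.Agent.Lib.Chevalley.NormalForm
import Cfsg.Agent.Lib.Chevalley.Count
import Cfsg.Agent.Lib.Chevalley.Order
import Cfsg.Agent.Lib.Chevalley.Types.G2
import Cfsg.Agent.Lib.GL2.Counts

/-!
Two commuting `SL₂` subgroups of the Chevalley group of type G₂, on the orthogonal roots `b` and
`2a + b` (indices 6 and 9), and the torus in coordinates.
-/

set_option autoImplicit false

open scoped MatrixGroups Matrix

namespace Cfsg.Agent.GroupStructure3.G2Inv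

open Cfsg.Lie Cfsg.Agent.Chevalley.Table Cfsg.Agent.Chevalley.Cert Cfsg.Agent.Chevalley.Relations
  Cfsg.Agent.Chevalley.Group Cfsg.Agent.Chevalley.Borel Cfsg.Agent.Chevalley.Unip
  Cfsg.Agent.Chevalley.Weyl Cfsg.Agent.Chevalley.SL2

theorem hC : Certified chevG2 Cfsg.Agent.Chevalley.Data.G2.tab :=
  Cfsg.Agent.Chevalley.Types.G2.certified

variable {F : Type*} [Field F]

/-- Ambient general linear group. -/
abbrev A (F : Type*) [Field F] : Type _ := GL chevG2.Idx F

theorem lt12 {r : ℕ} (h : r < 12) : r < chevG2.nroots := h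

/-! ### The torus -/

/-- Coefficients on the short simple root. -/
def cA (s : ℕ) : ℤ := ([-3, -3, -2, -1, -1, 0, 0, 1, 1, 2, 3, 3] : List ℤ).getD s 0

/-- Coefficients on the long simple root. -/
def cB (s : ℕ) : ℤ := ([-2, -1, -1, -1, 0, -1, 1, 0, 1, 1, 1, 2] : List ℤ).getD s 0

theorem cartan_coef : ∀ s : Fin 12, ∀ i : Fin 2, chevG2.cartan i s =
    cA s * chevG2.cartan i 7 + cB s * chevG2.cartan i 6 := by decide +kernel

theorem torChar_two (c : ℕ → Fˣ) (s : ℕ) :
    torChar chevG2 c s = c 0 ^ chevG2.cartan 0 s * c 1 ^ chevG2.cartan 1 s := by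
  rw [torChar, show chevG2.rank = 2 from rfl, Finset.prod_range_succ, Finset.prod_range_succ,
    Finset.prod_range_zero, one_mul]

theorem torChar_eq (c : ℕ → Fˣ) {s : ℕ} (hs : s < 12) :
    torChar chevG2 c s = torChar chevG2 c 7 ^ cA s * torChar chevG2 c 6 ^ cB s := by
  have h0 := cartan_coef ⟨s, hs⟩ 0
  have h1 := cartan_coef ⟨s, hs⟩ 1
  simp only [Fin.val_zero, Fin.val_one] at h0 h1
  rw [torChar_two c s, torChar_two c 7, torChar_two c 6, h0, h1]
  rw [mul_zpow, mul_zpow, ← zpow_mul, ← zpow_mul, ← zpow_mul, ← zpow_mul, zpow_add, zpow_add,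
    mul_comm (cA s), mul_comm (cB s), mul_comm (cA s), mul_comm (cB s)]
  ac_rfl

theorem tor_ext {c c' : ℕ → Fˣ} (h7 : torChar chevG2 c 7 = torChar chevG2 c' 7)
    (h6 : torChar chevG2 c 6 = torChar chevG2 c' 6) : tor chevG2 c = tor chevG2 c' := by
  refine dg_congr fun s hs => ?_
  rw [torChar_eq c hs, torChar_eq c' hs, h7, h6]

theorem torChar_congr {c c' : ℕ → Fˣ} (h : tor chevG2 c = tor chevG2 c') {s : ℕ} (hs : s < 12) :
    torChar chevG2 c s = torChar chevG2 c' s := by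
  have e := tor_conj_x hC c s 1 (lt12 hs)
  rw [h, tor_conj_x hC c' s 1 (lt12 hs)] at e
  have := xg_injective hC (lt12 hs) e
  exact Units.ext (by simpa using this.symm)

/-- Parameters of the torus element with prescribed characters at the simple roots. -/
def tc (x y : Fˣ) : ℕ → Fˣ := fun i => if i = 0 then x ^ 2 * y else x ^ 3 * y ^ 2

theorem torChar_tc_seven (x y : Fˣ) : torChar chevG2 (tc x y) 7 = x := by
  rw [torChar_two, show chevG2.cartan 0 7 = 2 from rfl, show chevG2.cartan 1 7 = -1 from rfl]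
  apply Units.ext
  simp [tc]
  field_simp

theorem torChar_tc_six (x y : Fˣ) : torChar chevG2 (tc x y) 6 = y := by
  rw [torChar_two, show chevG2.cartan 0 6 = -3 from rfl, show chevG2.cartan 1 6 = 2 from rfl]
  apply Units.ext
  simp [tc]
  field_simp

theorem torChar_tc (x y : Fˣ) {s : ℕ} (hs : s < 12) :
    torChar chevG2 (tc x y) s = x ^ cA s * y ^ cB s := by
  rw [torChar_eq _ hs, torChar_tc_seven, torChar_tc_six]

/-- The torus element with characters `x`, `y` at the simple roots. -/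
def tt (x y : Fˣ) : A F := tor chevG2 (tc x y)

theorem tt_mul (x y x' y' : Fˣ) : tt x y * tt x' y' = tt (x * x') (y * y') := by
  rw [tt, tt, tt, tor_mul]
  refine tor_ext ?_ ?_ <;>
    simp only [torChar, Pi.mul_apply, mul_zpow, Finset.prod_mul_distrib] <;>
    simp only [← torChar.eq_def, torChar_tc_seven, torChar_tc_six]

theorem tt_one : tt (1 : Fˣ) 1 = 1 := by
  rw [tt, ← tor_one (D := chevG2) (F := F)]
  refine tor_ext ?_ ?_
  · rw [torChar_tc_seven]; simp [torChar]
  · rw [torChar_tc_six]; simp [torChar]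

theorem tt_inv (x y : Fˣ) : (tt x y)⁻¹ = tt x⁻¹ y⁻¹ := by
  rw [inv_eq_iff_mul_eq_one, tt_mul, mul_inv_cancel, mul_inv_cancel, tt_one]

theorem tt_inj {x y x' y' : Fˣ} (h : tt x y = tt x' y') : x = x' ∧ y = y' := by
  have h7 := torChar_congr h (s := 7) (by omega)
  have h6 := torChar_congr h (s := 6) (by omega)
  rw [torChar_tc_seven, torChar_tc_seven] at h7
  rw [torChar_tc_six, torChar_tc_six] at h6
  exact ⟨h7, h6⟩

theorem exists_tt {h : A F} (hh : h ∈ chevG2.diagonalSubgroup F) : ∃ x y : Fˣ, h = tt x y := by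
  obtain ⟨c, rfl⟩ := (mem_H_iff hC).1 hh
  exact ⟨_, _, tor_ext (torChar_tc_seven _ _).symm (torChar_tc_six _ _).symm⟩

theorem tt_mem_H (x y : Fˣ) : tt x y ∈ chevG2.diagonalSubgroup F := tor_mem_H hC _

theorem tt_conj_x (x y : Fˣ) {s : ℕ} (hs : s < 12) (t : F) :
    tt x y * xg hC s t * (tt x y)⁻¹ = xg hC s (((x ^ cA s * y ^ cB s : Fˣ) : F) * t) := by
  rw [tt, tor_conj_x hC _ _ _ (lt12 hs), torChar_tc x y hs]

theorem card_diag [Fintype F] :
    Nat.card (chevG2.diagonalSubgroup F) = (Fintype.card F - 1) ^ 2 := by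
  have e : (Fˣ × Fˣ) ≃ chevG2.diagonalSubgroup F :=
    Equiv.ofBijective (fun p => ⟨tt p.1 p.2, tt_mem_H _ _⟩)
      ⟨fun p q h => by
        obtain ⟨h1, h2⟩ := tt_inj (congrArg Subtype.val h)
        exact Prod.ext h1 h2,
       fun ⟨h, hh⟩ => by
        obtain ⟨x, y, rfl⟩ := exists_tt hh
        exact ⟨(x, y), rfl⟩⟩
  classical
  rw [← Nat.card_congr e, Nat.card_prod, Nat.card_eq_fintype_card, Fintype.card_units, sq]

/-! ### The two `SL₂` -/

/-- The monomial matrix with parameter `a`. -/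
def sn (a : F) : SL(2, F) := sx a * sy (-a⁻¹) * sx a

/-- The diagonal matrix `diag(a, a⁻¹)`. -/
def sd (a : F) : SL(2, F) := sn a * sn (-1)

theorem coe_sd {a : F} (ha : a ≠ 0) :
    ((sd a : SL(2, F)) : Matrix (Fin 2) (Fin 2) F) = !![a, 0; 0, a⁻¹] := by
  ext i j
  fin_cases i <;> fin_cases j <;>
    simp [sd, sn, Matrix.mul_apply, Fin.sum_univ_two, ha]

theorem sd_neg_one : (sd (-1 : F)) = -1 := by
  apply Subtype.ext
  rw [coe_sd (neg_ne_zero.2 one_ne_zero)]
  ext i j
  fin_cases i <;> fin_cases j <;> simp [inv_neg]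

/-- A homomorphism that carries the standard root elements to those of the roots `±r`. -/
def IsRootHom (r : ℕ) (φ : SL(2, F) →* A F) : Prop :=
  (∀ t, φ (sx t) = xg hC r t) ∧ ∀ t, φ (sy t) = xg hC (chevG2.neg r) t

theorem exists_rootHom {r : ℕ} (hr : r < 12) : ∃ φ : SL(2, F) →* A F, IsRootHom r φ := by
  obtain ⟨φ, h1, h2, -⟩ := exists_hom (rank1 (F := F) hC (lt12 hr))
  exact ⟨φ, h1, h2⟩

/-- The `SL₂` of the root `b`. -/
noncomputable def φ₁ : SL(2, F) →* A F := (exists_rootHom (F := F) (r := 6) (by omega)).choose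

/-- The `SL₂` of the root `2a + b`. -/
noncomputable def φ₂ : SL(2, F) →* A F := (exists_rootHom (F := F) (r := 9) (by omega)).choose

theorem φ₁_spec : IsRootHom 6 (φ₁ (F := F)) := (exists_rootHom (F := F) (r := 6) (by omega)).choose_spec

theorem φ₂_spec : IsRootHom 9 (φ₂ (F := F)) := (exists_rootHom (F := F) (r := 9) (by omega)).choose_spec

theorem rootHom_sd {r : ℕ} {φ : SL(2, F) →* A F} (hφ : IsRootHom r φ) (a : F) :
    φ (sd a) = hg hC r a := by
  rw [sd, map_mul, sn, sn]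
  simp only [map_mul, hφ.1, hφ.2]
  rfl

theorem rootHom_injective {r s : ℕ} (hr : r < 12) (hp : 0 < Cfsg.Agent.Chevalley.Data.G2.tab.phi r)
    (hs : pair chevG2 r s = 1 ∨ pair chevG2 r s = -1) (hs' : s < 12) {φ : SL(2, F) →* A F}
    (hφ : IsRootHom r φ) : Function.Injective φ := by
  refine (injective_iff_map_eq_one φ).2 fun k hk => ?_
  have hc : el k 1 0 = 0 := by
    by_contra hc
    have e := hk
    rw [decomp hc, map_mul, map_mul, hφ.1, hφ.1, hφ.2] at e
    obtain ⟨c, hce⟩ : ∃ c, c = el k 1 0 := ⟨_, rfl⟩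
    rw [← hce] at e hc
    have hU : xg hC (chevG2.neg r) c ∈ chevG2.posUnipotent F := by
      rw [show xg hC (chevG2.neg r) c = (xg hC r ((el k 0 0 - 1) / c))⁻¹ *
          (xg hC r ((el k 0 0 - 1) / c) * xg hC (chevG2.neg r) c *
            xg hC r ((el k 1 1 - 1) / c)) * (xg hC r ((el k 1 1 - 1) / c))⁻¹ by group, e]
      exact mul_mem (mul_mem (inv_mem (xg_mem_U hC (lt12 hr) hp _)) (one_mem _))
        (inv_mem (xg_mem_U hC (lt12 hr) hp _))
    have hn : Cfsg.Agent.Chevalley.Data.G2.tab.phi (chevG2.neg r) < 0 := by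
      rw [hC.phi_neg (lt12 hr)]; omega
    have h1 := U_inf_V hC hU (xg_mem_V hC (hC.neg_lt (lt12 hr)) hn c)
    rw [← xg_zero hC (chevG2.neg r)] at h1
    exact hc (xg_injective hC (hC.neg_lt (lt12 hr)) h1)
  have hdet := el_det k
  rw [hc, mul_zero, sub_zero] at hdet
  have ha : el k 0 0 ≠ 0 := left_ne_zero_of_mul (hdet ▸ one_ne_zero)
  have hk' : k = sx (el k 0 0 * el k 0 1) * sd (el k 0 0) := by
    apply Subtype.ext
    rw [Matrix.SpecialLinearGroup.coe_mul, coe_sd ha, coe_sx]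
    ext i j
    fin_cases i <;> fin_cases j <;> simp [el, Matrix.mul_apply, Fin.sum_univ_two] at hc hdet ha ⊢
    · field_simp
    · exact hc
    · exact eq_inv_of_mul_eq_one_right hdet
  obtain ⟨u, hu⟩ : ∃ u : Fˣ, (u : F) = el k 0 0 := ⟨Units.mk0 _ ha, rfl⟩
  have e := hk
  rw [hk', map_mul, hφ.1, rootHom_sd hφ, ← hu, hg_eq_tor hC (lt12 hr)] at e
  have hH : tor chevG2 (fun i => u ^ cor chevG2 r i) = 1 := by
    refine UT_inf_H hC (U_le_UT hC ?_) (tor_mem_H hC _)
    rw [eq_inv_of_mul_eq_one_right e]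
    exact inv_mem (xg_mem_U hC (lt12 hr) hp _)
  rw [hH, mul_one, ← xg_zero hC r] at e
  have hb := xg_injective hC (lt12 hr) e
  rw [← tor_one (D := chevG2) (F := F)] at hH
  have hc1 := torChar_congr hH hs'
  rw [Cfsg.Agent.Chevalley.Perfect.torChar_pow hC] at hc1
  have hu1 : u = 1 := by
    have h1 : torChar chevG2 (1 : ℕ → Fˣ) s = 1 := by simp [torChar]
    rw [h1] at hc1
    rcases hs with hs | hs <;> rw [hs] at hc1
    · simpa using hc1
    · simpa using hc1
  rw [← hu, hb, hu1, Units.val_one] at hk'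
  rw [hk']
  apply Subtype.ext
  rw [Matrix.SpecialLinearGroup.coe_mul, coe_sd one_ne_zero, coe_sx]
  ext i j
  fin_cases i <;> fin_cases j <;> simp

theorem φ₁_injective : Function.Injective (φ₁ (F := F)) :=
  rootHom_injective (s := 7) (by omega) (by decide +kernel) (by decide +kernel) (by omega) φ₁_spec

theorem φ₂_injective : Function.Injective (φ₂ (F := F)) :=
  rootHom_injective (s := 7) (by omega) (by decide +kernel) (by decide +kernel) (by omega) φ₂_spec

theorem xg_commute {r s : ℕ} (hr : r < 12) (hs : s < 12) (hsr : s ≠ r) (hsn : s ≠ chevG2.neg r)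
    (h : chevG2.commTerms r s = []) (t u : F) : Commute (xg hC r t) (xg hC s u) := by
  have e := xg_comm hC (lt12 hr) (lt12 hs) hsr hsn t u
  rw [ChevalleyDatum.commWord, h, List.map_nil, List.map_nil, List.prod_nil, mul_one] at e
  exact e.symm

theorem φ_commute (g g' : SL(2, F)) : Commute (φ₁ g) (φ₂ g') := by
  have hc : ∀ r ∈ ([6, 5] : List ℕ), ∀ s ∈ ([9, 2] : List ℕ),
      r < 12 ∧ s < 12 ∧ s ≠ r ∧ s ≠ chevG2.neg r ∧ chevG2.commTerms r s = [] := by decide +kernel
  have hgen : ∀ r ∈ ([6, 5] : List ℕ), ∀ s ∈ ([9, 2] : List ℕ), ∀ t u : F,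
      Commute (xg hC r t) (xg hC s u) := fun r hr s hs t u =>
    have h := hc r hr s hs
    xg_commute h.1 h.2.1 h.2.2.1 h.2.2.2.1 h.2.2.2.2 t u
  have e5 : chevG2.neg 6 = 5 := rfl
  have e2 : chevG2.neg 9 = 2 := rfl
  have h2 : ∀ (r : ℕ), r ∈ ([6, 5] : List ℕ) → ∀ (t : F) (g' : SL(2, F)),
      Commute (xg hC r t) (φ₂ g') := by
    intro r hr t g'
    refine mem_of_generators (K := (Subgroup.centralizer {xg hC r t}).comap φ₂) (fun u => ?_)
      (fun u => ?_) g' |> fun h =>
        ((Subgroup.mem_centralizer_iff.1 (Subgroup.mem_comap.1 h)) _ (Set.mem_singleton _))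
    · refine Subgroup.mem_centralizer_iff.2 ?_
      rintro _ rfl
      rw [φ₂_spec.1]
      exact hgen r hr 9 (by simp) t u
    · refine Subgroup.mem_centralizer_iff.2 ?_
      rintro _ rfl
      rw [φ₂_spec.2, e2]
      exact hgen r hr 2 (by simp) t u
  refine mem_of_generators (K := (Subgroup.centralizer {φ₂ g'}).comap φ₁) (fun u => ?_)
    (fun u => ?_) g |> fun h =>
      ((Subgroup.mem_centralizer_iff.1 (Subgroup.mem_comap.1 h)) _ (Set.mem_singleton _)).symm
  · refine Subgroup.mem_centralizer_iff.2 ?_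
    rintro _ rfl
    rw [φ₁_spec.1]
    exact (h2 6 (by simp) u g').symm
  · refine Subgroup.mem_centralizer_iff.2 ?_
    rintro _ rfl
    rw [φ₁_spec.2, e5]
    exact (h2 5 (by simp) u g').symm

/-- The product of the two homomorphisms. -/
noncomputable def φ : SL(2, F) × SL(2, F) →* A F :=
  MonoidHom.noncommCoprod φ₁ φ₂ φ_commute

theorem φ_apply (g g' : SL(2, F)) : φ (g, g') = φ₁ g * φ₂ g' := rfl

/-- `diag(u, 1)` conjugation. -/
def cj (u : Fˣ) : SL(2, F) →* SL(2, F) where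
  toFun g := ⟨!![el g 0 0, (u : F) * el g 0 1; el g 1 0 / (u : F), el g 1 1], by
    rw [Matrix.det_fin_two_of]
    have := el_det g
    field_simp
    linear_combination this⟩
  map_one' := by
    apply Subtype.ext
    ext i j
    fin_cases i <;> fin_cases j <;> simp [el]
  map_mul' g h := by
    refine Subtype.ext ?_
    show _ = !![el g 0 0, (u : F) * el g 0 1; el g 1 0 / (u : F), el g 1 1] *
      !![el h 0 0, (u : F) * el h 0 1; el h 1 0 / (u : F), el h 1 1]
    ext i j
    fin_cases i <;> fin_cases j <;> simp [el, Matrix.mul_apply, Fin.sum_univ_two] <;> field_simp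

@[simp] theorem coe_cj (u : Fˣ) (g : SL(2, F)) :
    ((cj u g : SL(2, F)) : Matrix (Fin 2) (Fin 2) F) =
      !![el g 0 0, (u : F) * el g 0 1; el g 1 0 / (u : F), el g 1 1] := rfl

theorem rootHom_conj {r : ℕ} (hr : r < 12) {φ : SL(2, F) →* A F} (hφ : IsRootHom r φ)
    (c : ℕ → Fˣ) (g : SL(2, F)) :
    tor chevG2 c * φ g * (tor chevG2 c)⁻¹ = φ (cj (torChar chevG2 c r) g) := by
  refine mem_of_generators
    (K := MonoidHom.eqLocus ((MulAut.conj (tor chevG2 c)).toMonoidHom.comp φ)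
      (φ.comp (cj (torChar chevG2 c r)))) (fun t => ?_) (fun t => ?_) g
  · show tor chevG2 c * φ (sx t) * (tor chevG2 c)⁻¹ = φ (cj _ (sx t))
    have e : cj (torChar chevG2 c r) (sx t) = sx ((torChar chevG2 c r : F) * t) := by
      apply Subtype.ext
      ext i j
      fin_cases i <;> fin_cases j <;> simp [el]
    rw [e, hφ.1, hφ.1, tor_conj_x hC _ _ _ (lt12 hr)]
  · show tor chevG2 c * φ (sy t) * (tor chevG2 c)⁻¹ = φ (cj _ (sy t))
    have e : cj (torChar chevG2 c r) (sy t) = sy ((torChar chevG2 c r : F)⁻¹ * t) := by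
      apply Subtype.ext
      ext i j
      fin_cases i <;> fin_cases j <;> simp [el]
      ring
    have hneg : torChar chevG2 c (chevG2.neg r) = (torChar chevG2 c r)⁻¹ := by
      rw [torChar, torChar, ← Finset.prod_inv_distrib]
      exact Finset.prod_congr rfl fun i hi => by
        rw [hC.cartan_neg (lt12 hr) (Finset.mem_range.1 hi), zpow_neg]
    rw [e, hφ.2, hφ.2, tor_conj_x hC _ _ _ (hC.neg_lt (lt12 hr)), hneg, Units.val_inv_eq_inv_val]

theorem tt_conj_φ (x y : Fˣ) (g g' : SL(2, F)) :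
    tt x y * φ (g, g') * (tt x y)⁻¹ = φ (cj y g, cj (x ^ 2 * y) g') := by
  have e6 := torChar_tc x y (s := 6) (by omega)
  have e9 := torChar_tc x y (s := 9) (by omega)
  rw [show cA 6 = 0 from rfl, show cB 6 = 1 from rfl, zpow_zero, one_mul, zpow_one] at e6
  rw [show cA 9 = 2 from rfl, show cB 9 = 1 from rfl, zpow_one] at e9
  rw [φ_apply, φ_apply, show cj (x ^ 2 * y) g' = cj (torChar chevG2 (tc x y) 9) g' by rw [e9]; norm_cast,
    show cj y g = cj (torChar chevG2 (tc x y) 6) g by rw [e6],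
    ← rootHom_conj (by omega) φ₁_spec, ← rootHom_conj (by omega) φ₂_spec, tt]
  group

theorem φ_sd (a a' : Fˣ) : φ (sd (a : F), sd (a' : F)) = tt (a⁻¹ * a') (a ^ 2) := by
  rw [φ_apply, rootHom_sd φ₁_spec, rootHom_sd φ₂_spec, hg_eq_tor hC (lt12 (by omega)),
    hg_eq_tor hC (lt12 (by omega)), tor_mul, tt]
  have e : ∀ s, torChar chevG2 ((fun i => a ^ cor chevG2 6 i) * fun i => a' ^ cor chevG2 9 i) s =
      a ^ pair chevG2 6 s * a' ^ pair chevG2 9 s := fun s => by
    rw [← Cfsg.Agent.Chevalley.Perfect.torChar_pow hC, ← Cfsg.Agent.Chevalley.Perfect.torChar_pow hC]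
    simp only [torChar, Pi.mul_apply, mul_zpow, Finset.prod_mul_distrib]
  refine tor_ext ?_ ?_
  · rw [e, torChar_tc_seven, show pair chevG2 6 7 = -1 by decide +kernel,
      show pair chevG2 9 7 = 1 by decide +kernel, zpow_neg_one, zpow_one]
  · rw [e, torChar_tc_six, show pair chevG2 6 6 = 2 by decide +kernel,
      show pair chevG2 9 6 = 0 by decide +kernel, zpow_zero, mul_one]
    norm_cast

/-- The basic involution. -/
noncomputable def t₀ : A F := φ₁ (-1)

theorem t₀_eq_tt : (t₀ : A F) = tt (-1) 1 := by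
  have h := φ_sd (-1 : Fˣ) 1
  rw [show ((1 : Fˣ) : F) = 1 from rfl, show ((-1 : Fˣ) : F) = -1 by simp, sd_neg_one] at h
  have h1 : (sd (1 : F)) = 1 := by
    apply Subtype.ext
    rw [coe_sd one_ne_zero]
    ext i j
    fin_cases i <;> fin_cases j <;> simp
  rw [h1, φ_apply, map_one, mul_one] at h
  rw [t₀, h]
  congr 1 <;> simp

theorem φ₂_neg_one : φ₂ (-1 : SL(2, F)) = t₀ := by
  have h := φ_sd (1 : Fˣ) (-1)
  rw [show ((1 : Fˣ) : F) = 1 from rfl, show ((-1 : Fˣ) : F) = -1 by simp, sd_neg_one] at h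
  have h1 : (sd (1 : F)) = 1 := by
    apply Subtype.ext
    rw [coe_sd one_ne_zero]
    ext i j
    fin_cases i <;> fin_cases j <;> simp
  rw [h1, φ_apply, map_one, one_mul] at h
  rw [h, t₀_eq_tt]
  congr 1 <;> simp

end Cfsg.Agent.GroupStructure3.G2Inv
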